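import Cfsg.Agent.H478.T5.Gen
import Cfsg.Agent.H805.NoEB

/-!
# S3854, primes `p ≥ 5`: the row of the Baby Monster (helper478, task 2802)
-/

set_option autoImplicit false

namespace Cfsg.Agent.H478.T5

open Cfsg Subgroup Cfsg.Agent.H301.SY Cfsg.Agent.H459.Rad Cfsg.Agent.SignalizersComponents.ComponentExists
open Cfsg.Agent.H959.T5

theorem not_solvable_of_card {G : Type*} [Group G] [Finite G] [IsSimpleGroup G] {n : ℕ} (h : Nat.card G = n) (hn : ¬ n.Prime) :
    ¬ Group.IsSolvable G := fun hs =>
  H561.AATool.not_comm_of_card (G := G) (by rw [h]; exact hn) ⟨⟨IsSimpleGroup.comm_iff_isSolvable.2 hs⟩⟩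

open Cfsg.Agent.BabyM in
/-- **The Baby Monster, task 2802** -/
theorem noTE_b {K : Type*} [Group K] [Finite K] [IsSimpleGroup K] (h : Cfsg.Spor.IsoB K) {p : ℕ} [Fact p.Prime]
    (_hp : 5 ≤ p) (_hb : Cfsg.Agent.H301.SY.Blk p K) (hO : Cfsg.Agent.H301.SY.ThO p K) :
    Cfsg.Agent.H959.T5.NoTE p K := by
  obtain ⟨e⟩ := Cfsg.Agent.KFacts.Baby.RowB.exists_iso h
  have hfin : Finite Inst.M.G := Instance.all.finite_G
  have hc : Nat.card Inst.M.G = 4154781481226426191177580544000000 := Instance.isB.2
  have hcK : Nat.card K = 4154781481226426191177580544000000 := by rw [← Nat.card_congr e.toEquiv, hc]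
  obtain ⟨K1, hK1, -⟩ := WordsTh.exists_th Instance.all Instance.ok Cfsg.Agent.S1700.result
  obtain ⟨K2, hK2⟩ := HNB.main Instance.all Instance.ok Cfsg.Agent.S1701.result
  obtain ⟨K3, hK3⟩ := Fi23B.main Instance.all Instance.ok Cfsg.Agent.S1697.result
  by_cases hpd : p ∣ Nat.card K
  swap
  · exact NoTE.of_not_dvd hpd
  have hpl : p = 5 ∨ p = 7 ∨ p = 11 ∨ p = 13 ∨ p = 17 ∨ p = 19 ∨ p = 23 ∨ p = 31 ∨ p = 47 := by
    have hpp : p.Prime := Fact.out
    rw [hcK, show 4154781481226426191177580544000000 = 2 ^ 41 * (3 ^ 13 * (5 ^ 6 * (7 ^ 2 * (11 * (13 * (17 * (19 *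
      (23 * (31 * 47))))))))) by norm_num] at hpd
    have hdvd : ∀ q : ℕ, q.Prime → p ∣ q → p = q := fun q hq h => (Nat.prime_dvd_prime_iff_eq hpp hq).1 h
    simp only [hpp.dvd_mul] at hpd
    rcases hpd with h | h | h | h | h | h | h | h | h | h | h
    · have := hdvd 2 (by norm_num) (hpp.dvd_of_dvd_pow h); omega
    · have := hdvd 3 (by norm_num) (hpp.dvd_of_dvd_pow h); omega
    · have := hdvd 5 (by norm_num) (hpp.dvd_of_dvd_pow h); omega
    · have := hdvd 7 (by norm_num) (hpp.dvd_of_dvd_pow h); omega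
    · have := hdvd 11 (by norm_num) h; omega
    · have := hdvd 13 (by norm_num) h; omega
    · have := hdvd 17 (by norm_num) h; omega
    · have := hdvd 19 (by norm_num) h; omega
    · have := hdvd 23 (by norm_num) h; omega
    · have := hdvd 31 (by norm_num) h; omega
    · have := hdvd 47 (by norm_num) h; omega
  have hn1 : ¬ Group.IsSolvable K1 := by have := hK1.1; exact not_solvable_of_card hK1.2 (by norm_num)
  have hn2 : ¬ Group.IsSolvable K2 := by have := hK2.1; exact not_solvable_of_card hK2.2 (by norm_num)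
  have hn3 : ¬ Group.IsSolvable K3 := by have := hK3.1; exact not_solvable_of_card hK3.2 (by norm_num)
  have fromTh : ¬ p ∣ 45784762417152000 → NoTE p K := fun hm => NoTE.congr e.symm
    (noTE_of_simple_index (m := 45784762417152000) (by rw [hc]) hK1.2 hK1.1 hn1 hm (by norm_num))
  have fromHN : ¬ p ∣ 15217256723027853312 → NoTE p K := fun hm => NoTE.congr e.symm
    (noTE_of_simple_index (m := 15217256723027853312) (by rw [hc]) hK2.2 hK2.1 hn2 hm (by norm_num))
  have fromFi : ¬ p ∣ 1015970529280000 → NoTE p K := fun hm => NoTE.congr e.symm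
    (noTE_of_simple_index (m := 1015970529280000) (by rw [hc]) hK3.2 hK3.1 hn3 hm (by norm_num))
  rcases hpl with rfl | rfl | rfl | rfl | rfl | rfl | rfl | rfl | rfl
  · exact fromHN (by norm_num)
  · exact fromTh (by norm_num)
  · exact fromHN (by norm_num)
  · exact fromTh (by norm_num)
  · exact fromFi (by norm_num)
  · exact fromHN (by norm_num)
  · exact fromFi (by norm_num)
  · exact fromTh (by norm_num)
  · have hcyc : ∀ P : Sylow 47 K, IsCyclic (P : Subgroup K) := cyclic_of_card (by rw [hcK]; norm_num)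
    have hna : ¬ IsMulCommutative K := H561.AATool.not_comm_of_card (by rw [hcK]; norm_num)
    have hNA : H393.Iso.NA 47 K := by
      obtain ⟨e'⟩ := h
      exact (H547.PP.FarBaby.na_b (by norm_num) (by norm_num) (by norm_num) (by norm_num)).of_equiv e'.symm
    refine NoTE.of_num hna (by rw [hcK]; norm_num) (by norm_num) hcyc hO (fun x hx h2 => ?_) (Or.inr ⟨default, ?_⟩)
    · have f2 : Fact (Nat.Prime 2) := ⟨Nat.prime_two⟩
      obtain ⟨u, hu⟩ := exists_prime_orderOf_dvd_card' 2 h2
      exact hNA x u hx (by rw [Subgroup.orderOf_coe]; exact hu) (mem_centralizer_singleton_iff.1 u.2).symm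
    · rintro a j n hT ha hj - - - -
      have f2 : Fact (Nat.Prime 2) := ⟨Nat.prime_two⟩
      have h41 : Nat.card ↥((default : Sylow 2 K) : Subgroup K) = 2 ^ 41 := by
        refine (Sylow.card_eq_multiplicity (default : Sylow 2 K)).trans ?_
        congr 1
        rw [hcK]
        rw [show 4154781481226426191177580544000000 = 2 ^ 41 * 1889375872099856765625 by norm_num,
          Nat.factorization_mul (by norm_num) (by norm_num), Nat.Prime.factorization_pow Nat.prime_two]
        simp [Nat.factorization_eq_zero_of_not_dvd]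
      have h1 : a + j = 41 := Nat.pow_right_injective le_rfl (hT.symm.trans h41)
      have hj1 : j ≤ 1 := by
        by_contra h2
        push Not at h2
        have h3 : 2 ^ 2 ∣ 46 := (pow_dvd_pow 2 h2).trans hj
        norm_num at h3
      have ha' : a = 40 ∨ a = 41 := by omega
      rcases ha' with rfl | rfl <;> norm_num at ha

end Cfsg.Agent.H478.T5
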