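import Cfsg.Agent.H478.T5.Gen
import Cfsg.Agent.H669.SY.HN

/-!
# S3854, primes `p ≥ 5`: the row of the Harada–Norton group (helper478, task 2798)
-/

set_option autoImplicit false

namespace Cfsg.Agent.H478.T5

open Cfsg Subgroup Cfsg.Agent.H459.Rad Cfsg.Agent.H301.SY Cfsg.Agent.SignalizersComponents.ComponentExists
open Cfsg.Agent.H959.T5

namespace HN

open Cfsg.Agent.HN Cfsg.Agent.HN.Pres Cfsg.Agent.HN.P1408 Cfsg.Agent.HN.H0Basic
open Cfsg.Agent.HN.XWords (W0)
open Cfsg.Agent.KFacts.HN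
open Cfsg.Agent.H669.SY.HN

/-- **`p = 5`** -/
theorem noTE_five [Fact (Nat.Prime 5)] : NoTE 5 Spor.HN := by
  have hfin := finite_HN
  refine NoTE.of_even center_eq_bot fun x hx => ?_
  obtain ⟨_, _, _, _, _, _, D⟩ := H536.T5.dat
  obtain ⟨s, hs2, hs1, hsx⟩ := D.exists_inv (by rw [H536.T5.card_HN]; norm_num) hx
  have : Fact (Nat.Prime 2) := ⟨Nat.prime_two⟩
  have hs : orderOf s = 2 := orderOf_eq_prime (by rw [pow_two]; exact hs2) hs1
  have hrad : ∀ a : Spor.HN, ¬ 5 ∣ Nat.card (radIn (centralizer ({a} : Set Spor.HN))) → IsConj s a →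
      ¬ 5 ∣ Nat.card (radIn (centralizer ({s} : Set Spor.HN))) := by
    intro a ha hsa
    obtain ⟨c, hc⟩ := isConj_iff.1 hsa
    have h1 : (centralizer ({s} : Set Spor.HN)).map (MulAut.conj c).toMonoidHom = centralizer ({a} : Set Spor.HN) := by
      rw [Cfsg.Agent.CpAutHNFive.TauFive.map_centralizer, hc]
    rw [← h1, radIn_conj, Subgroup.card_map_of_injective (MulAut.conj c).injective] at ha
    exact ha
  refine ⟨s, hs1, ?_, ?_⟩
  · exact hsx
  · rcases Classes.inv_class hs with h | h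
    · exact hrad _ not_dvd_τ h
    · exact hrad _ not_dvd_W0 h

/-- an element of order `4` -/
theorem exists_four : ∃ y : Spor.HN, y ^ 4 = 1 ∧ y ^ 18 ≠ 1 := by
  let g : alternatingGroup (Fin 12) := ⟨(Equiv.swap 0 1 * Equiv.swap 1 2 * Equiv.swap 2 3) * Equiv.swap 4 5, by
    simp [Equiv.Perm.mem_alternatingGroup]⟩
  refine ⟨Cfsg.Agent.CpAutHN.Alt.Φ g, ?_, ?_⟩
  · rw [← map_pow]
    have : g ^ 4 = 1 := by
      apply Subtype.ext
      change ((Equiv.swap 0 1 * Equiv.swap 1 2 * Equiv.swap 2 3) * Equiv.swap 4 5 : Equiv.Perm (Fin 12)) ^ 4 = 1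
      decide
    rw [this, map_one]
  · rw [← map_pow]
    intro h
    have h1 := Cfsg.Agent.CpAutHN.Alt.Φ_inj (h.trans (map_one _).symm)
    have h2 := congrArg (fun s : alternatingGroup (Fin 12) => (s : Equiv.Perm (Fin 12)) 0) h1
    have h3 : (((Equiv.swap 0 1 * Equiv.swap 1 2 * Equiv.swap 2 3) * Equiv.swap 4 5 : Equiv.Perm (Fin 12)) ^ 18) 0
      = (1 : Equiv.Perm (Fin 12)) 0 := h2
    revert h3
    decide +kernel

end HN

/-- **task 2798, HN** -/
theorem noTE_hn {K : Type*} [Group K] [Finite K] [IsSimpleGroup K] (h : Cfsg.Spor.IsoHN K) {p : ℕ} [hp : Fact p.Prime]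
    (h5 : 5 ≤ p) (hb : Cfsg.Agent.H301.SY.Blk p K) (_hO : Cfsg.Agent.H301.SY.ThO p K) :
    Cfsg.Agent.H959.T5.NoTE p K := by
  obtain ⟨e⟩ := h
  have hfin := Cfsg.Agent.KFacts.HN.finite_HN
  have hcard : Nat.card K = 273030912000000 := (Nat.card_congr e.toEquiv).trans H669.SY.HN.card_HN
  by_cases hd : p ∣ 273030912000000
  swap
  · exact NoTE.of_not_dvd (by rwa [hcard])
  have hps : p = 5 ∨ p = 7 ∨ p = 11 ∨ p = 19 := by
    have h1 : p ∈ Nat.primeFactors 273030912000000 := Nat.mem_primeFactors.2 ⟨hp.out, hd, by norm_num⟩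
    have h2 : Nat.primeFactors 273030912000000 = {2, 3, 5, 7, 11, 19} := by
      rw [show (273030912000000 : ℕ) = 2 ^ 14 * (3 ^ 6 * (5 ^ 6 * (7 * (11 * 19)))) by norm_num]
      rw [Nat.primeFactors_mul (by norm_num) (by norm_num), Nat.primeFactors_mul (by norm_num) (by norm_num),
        Nat.primeFactors_mul (by norm_num) (by norm_num), Nat.primeFactors_mul (by norm_num) (by norm_num),
        Nat.primeFactors_mul (by norm_num) (by norm_num),
        Nat.primeFactors_prime_pow (by norm_num) (by norm_num), Nat.primeFactors_prime_pow (by norm_num) (by norm_num),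
        Nat.primeFactors_prime_pow (by norm_num) (by norm_num),
        Nat.Prime.primeFactors (by norm_num), Nat.Prime.primeFactors (by norm_num), Nat.Prime.primeFactors (by norm_num)]
      rfl
    rw [h2] at h1
    simp only [Finset.mem_insert, Finset.mem_singleton] at h1
    omega
  rcases hps with rfl | rfl | rfl | rfl
  · exact HN.noTE_five.congr e
  · exact NoTE.congr e (NoTE.of_lw (cyclic_of_card (by rw [H669.SY.HN.card_HN]; norm_num))
      (H669.SY.HN.lw_alt (by rw [H669.SY.card_A12]; norm_num)))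
  · exact NoTE.congr e (NoTE.of_lw (cyclic_of_card (by rw [H669.SY.HN.card_HN]; norm_num))
      (H669.SY.HN.lw_alt (by rw [H669.SY.card_A12]; norm_num)))
  · obtain ⟨y, hy4, hy18⟩ := HN.exists_four
    refine NoTE.of_exp (y := e.symm y) (k := 2) (cyclic_of_card (by rw [hcard]; norm_num)) hb (by norm_num) ?_ ?_
    · rw [← map_pow, show 2 ^ 2 = 4 from rfl, hy4, map_one]
    · intro h1
      apply hy18
      rw [← map_pow] at h1
      exact (map_eq_one_iff e.symm e.symm.injective).1 h1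

end Cfsg.Agent.H478.T5
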